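import Groth.Prelude.Def_EtDlF
import Groth.Prelude.Def_EtBase
import Groth.Agent.Etcore.OpenClosed
import Groth.Agent.Etrest.ConstBasic
import Groth.Agent.Sga4B.HTools
import Groth.Agent.Sga4B.CurveDualAbs
import Groth.Agent.Sga4B.DualFinal
import Groth.Agent.Sga4B.PkgB
import Groth.Agent.S3111

/-!
# `|H¹(X, ℤ/n)| ≤ |H¹_c(X, ℤ/n)|` for a smooth curve over an algebraically closed field

Consequence of Poincaré duality (`Sga4B.DualFinal`, all dimensions) and of the finiteness of the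
cohomology with proper support (`S3111`).
-/

set_option autoImplicit false
universe u
open CategoryTheory CategoryTheory.Limits AlgebraicGeometry Opposite

namespace Groth.Agent.Etdl.H521.CardH1

open Groth.Agent.Etcore Groth.Agent.Sga4B

/-- A sheaf which vanishes on the closed complement of the open immersion `j` is `j_!` of its
restriction. -/
theorem nonempty_iso_extZero {Xbar Y X : Scheme.{u}} (i : Y ⟶ Xbar) [IsClosedImmersion i]
    (j : X ⟶ Xbar) [IsOpenImmersion j] (hij : Set.range j.base = (Set.range i.base)ᶜ)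
    (K : EtCoh.Ab Xbar) (M : EtCoh.Ab X) (e : (EtCoh.pull j).obj K ≅ M)
    (hY : IsZero ((EtCoh.pull i).obj K)) :
    Nonempty (K ≅ (EtShriek.extZero j).obj M) := by
  have hc : IsIso ((EtShriek.extZeroAdj j).counit.app K) := by
    refine ShriekUnique.isIso_counit_of_isZero_stalks j K ?_
    intro Ω _ _ ξ hξ
    have h : ξ default ∈ Set.range i := by
      have h1 : ξ default ∈ (Set.range j.base)ᶜ := hξ ⟨default, rfl⟩
      rw [hij, compl_compl] at h1
      exact h1
    obtain ⟨ζ, rfl⟩ := OpenClosed.exists_lift_closedImmersion i ξ h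
    exact ((EtCoh.stalk ζ).map_isZero hY).of_iso
      ((Groth.Agent.Etbase.StalkPull.stalkPullIso i ζ).app K)
  exact ⟨(asIso ((EtShriek.extZeroAdj j).counit.app K)).symm ≪≫
    (EtShriek.extZero j).mapIso ((ShriekBasic.pullIsoRestr j).symm.app K ≪≫ e)⟩

/-- Poincaré duality count, in any dimension: for `X` smooth of relative dimension `d` over an
algebraically closed field, open in a proper `P`, and `n` invertible, `H^{2d-i}(X, ℤ/n)` and
`H^i(P, j_! ℤ/n)` are finite and the order of the first is at most the order of the second. -/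
theorem card_H_le {k : Type u} [Field k] [IsAlgClosed k] {X P : Scheme.{u}}
    (a : P ⟶ Spec (CommRingCat.of k)) [IsProper a] (j : X ⟶ P) [IsOpenImmersion j]
    (d : ℕ) [SmoothOfRelativeDimension d (j ≫ a)] (n : ℕ) (hn : (n : k) ≠ 0) (i : ℕ)
    (hi : i ≤ 2 * d) :
    Finite (EtCoh.H X (EtCoh.const X (ZMod n)) (2 * d - i)) ∧
      Finite (EtCoh.H P ((EtShriek.extZero j).obj (EtCoh.const X (ZMod n))) i) ∧
      Nat.card (EtCoh.H X (EtCoh.const X (ZMod n)) (2 * d - i)) ≤
        Nat.card (EtCoh.H P ((EtShriek.extZero j).obj (EtCoh.const X (ZMod n))) i) := by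
  have hn0 : n ≠ 0 := fun h => hn (by rw [h, Nat.cast_zero])
  have : NeZero n := ⟨hn0⟩
  have hfin : Finite (EtCoh.H P ((EtShriek.extZero j).obj (EtCoh.const X (ZMod n))) i) :=
    Groth.Agent.S3111.result a j n (Nat.pos_of_ne_zero hn0) _
      (Groth.Agent.Etrest.ConstBasic.isConstructible_const X (ZMod n))
      (Groth.Agent.Etrest.ConstBasic.killedBy_const X (ZMod n) n fun m => by simp) i
  obtain ⟨e⟩ := DualFinal.nonempty_equiv a j d n (Nat.pos_of_ne_zero hn0) (PkgB.pkg k n hn d) i hi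
  obtain ⟨h1, h2⟩ := CurveDualAbs.card_hom_le hn0
    (EtCoh.H P ((EtShriek.extZero j).obj (EtCoh.const X (ZMod n))) i)
  exact ⟨Finite.of_equiv _ e.symm.toEquiv, hfin, (Nat.card_congr e.toEquiv).trans_le h2⟩

theorem A_card_H1_le (k : Type u) [Field k] [IsAlgClosed k]
    {Xbar Y X : Scheme.{u}} (pbar : Xbar ⟶ Spec (CommRingCat.of k)) [IsProper pbar]
    (i : Y ⟶ Xbar) [IsClosedImmersion i] [IsFinite (i ≫ pbar)]
    (j : X ⟶ Xbar) [IsOpenImmersion j] (hij : Set.range j.base = (Set.range i.base)ᶜ)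
    (hdense : Dense (Set.range j.base)) [SmoothOfRelativeDimension 1 (j ≫ pbar)]
    (n : ℕ) (hn : (n : k) ≠ 0) (K : EtCoh.Ab Xbar)
    (eX : Nonempty ((EtCoh.pull j).obj K ≅ EtCoh.const X (ZMod n)))
    (hY : IsZero ((EtCoh.pull i).obj K)) :
    Finite (EtCoh.H X (EtCoh.const X (ZMod n)) 1) ∧ Finite (EtCoh.H Xbar K 1) ∧
      Nat.card (EtCoh.H X (EtCoh.const X (ZMod n)) 1) ≤ Nat.card (EtCoh.H Xbar K 1) := by
  obtain ⟨eX⟩ := eX
  obtain ⟨e⟩ := nonempty_iso_extZero i j hij K _ eX hY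
  obtain ⟨h1, h2, h3⟩ := card_H_le pbar j 1 n hn 1 (by norm_num)
  have h4 := (HTools.HCongr e.symm 1).toEquiv
  refine ⟨h1, Finite.of_equiv _ h4, ?_⟩
  rw [← Nat.card_congr h4]
  exact h3

end Groth.Agent.Etdl.H521.CardH1
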