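import Mathlib.RingTheory.RingHom.Etale
import Mathlib.RingTheory.RingHom.FiniteType
import Mathlib.RingTheory.RingHom.EssFiniteType
import Mathlib.RingTheory.Unramified.Field
import Mathlib.RingTheory.Ideal.Quotient.Nilpotent
import Mathlib.Algebra.DualNumber
import Mathlib.LinearAlgebra.Matrix.Nondegenerate
import Mathlib.LinearAlgebra.Matrix.ToLin

/-!
# Change of coordinates at a point

`A` a `k`-algebra, `a`, `b` two systems of étale coordinates of `A` at the rational point `s` (both vanishing only
at `s`). Then `b = N a` with `N(s)` invertible.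
-/

set_option autoImplicit false

universe u v

namespace Groth.Agent.Etdl.H521.RcHAlg

/-- Lifting of ring homomorphisms along a nilpotent thickening. -/
theorem exists_lift_ringHom {R A B C : Type*} [CommRing R] [CommRing A] [CommRing B] [CommRing C]
    (f : R →+* A) (hf : f.FormallySmooth) (g : B →+* C) (hg : Function.Surjective g)
    (hk : IsNilpotent (RingHom.ker g)) (p : R →+* B) (q : A →+* C) (h : q.comp f = g.comp p) :
    ∃ r : A →+* B, g.comp r = q ∧ r.comp f = p := by
  let : Algebra R A := f.toAlgebra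
  let : Algebra R B := p.toAlgebra
  let : Algebra R C := (g.comp p).toAlgebra
  have : Algebra.FormallySmooth R A := hf
  let q' : A →ₐ[R] C := { q with commutes' := fun x => RingHom.congr_fun h x }
  let g' : B →ₐ[R] C := { g with commutes' := fun x => rfl }
  refine ⟨(Algebra.FormallySmooth.liftOfSurjective q' g' hg hk : A →+* B), ?_, ?_⟩
  · ext x
    exact Algebra.FormallySmooth.liftOfSurjective_apply q' g' hg hk x
  · ext x
    exact (Algebra.FormallySmooth.liftOfSurjective q' g' hg hk).commutes x

section

variable {k : Type u} [Field k] {A : Type v} [CommRing A] (κ : k →+* A) {ι : Type*} [Fintype ι]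
  [DecidableEq ι] {a b : ι → A} {s : A →+* k}

omit [DecidableEq ι] in
include κ in
/-- The ideal of the coordinates is the ideal of the point. -/
theorem span_eq_ker (ha : (MvPolynomial.eval₂Hom κ a).Etale) (ha0 : ∀ i, s (a i) = 0)
    (hu : ∀ P : Ideal A, P.IsPrime → (∀ i, a i ∈ P) → P = RingHom.ker s) :
    Ideal.span (Set.range a) = RingHom.ker s := by
  set I := Ideal.span (Set.range a) with hI
  let π : A →+* A ⧸ I := Ideal.Quotient.mk I
  have h1 : (π.comp (MvPolynomial.eval₂Hom κ a)).FormallyUnramified :=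
    ha.formallyUnramified.comp (RingHom.FormallyUnramified.of_surjective Ideal.Quotient.mk_surjective)
  have h2 : π.comp (MvPolynomial.eval₂Hom κ a) =
      (π.comp κ).comp (MvPolynomial.eval₂Hom (RingHom.id k) (fun _ : ι => 0)) := by
    apply MvPolynomial.ringHom_ext
    · intro r
      simp
    · intro i
      simp only [RingHom.comp_apply, MvPolynomial.eval₂Hom_X', map_zero]
      exact Ideal.Quotient.eq_zero_iff_mem.mpr (Ideal.subset_span ⟨i, rfl⟩)
  have h3 : (π.comp κ).FormallyUnramified := by
    rw [h2] at h1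
    exact RingHom.FormallyUnramified.of_comp h1
  have h4 : (π.comp κ).FiniteType := by
    have h5 : (MvPolynomial.eval₂Hom κ a).FiniteType := by
      let := (MvPolynomial.eval₂Hom κ a).toAlgebra
      have : Algebra.Etale (MvPolynomial ι k) A := ha
      exact (inferInstance : Algebra.FiniteType (MvPolynomial ι k) A)
    have h6 : (MvPolynomial.C (R := k) (σ := ι)).FiniteType := by
      have : Algebra.FiniteType k (MvPolynomial ι k) := inferInstance
      exact RingHom.finiteType_algebraMap.mpr this
    have h7 : κ.FiniteType := by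
      have h8 := h5.comp h6
      rwa [MvPolynomial.eval₂Hom_comp_C] at h8
    exact (RingHom.FiniteType.of_surjective π Ideal.Quotient.mk_surjective).comp h7
  have h5 : IsReduced (A ⧸ I) := by
    let := (π.comp κ).toAlgebra
    have : Algebra.FormallyUnramified k (A ⧸ I) := h3
    have : Algebra.FiniteType k (A ⧸ I) := h4
    exact Algebra.FormallyUnramified.isReduced_of_field k (A ⧸ I)
  have h6 : I.IsRadical := (Ideal.isRadical_iff_quotient_reduced I).mpr h5
  refine le_antisymm ?_ ?_
  · rw [hI, Ideal.span_le]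
    rintro _ ⟨i, rfl⟩
    exact ha0 i
  · rw [← h6.radical, Ideal.radical_eq_sInf]
    refine le_sInf ?_
    rintro P ⟨hP, hPp⟩
    exact (hu P hPp fun i => hP (Ideal.subset_span ⟨i, rfl⟩)).ge

/-- Tangent vectors. -/
theorem exists_tangent (hb : (MvPolynomial.eval₂Hom κ b).Etale) (hs : s.comp κ = RingHom.id k)
    (hb0 : ∀ i, s (b i) = 0) (i : ι) :
    ∃ φ : A →+* DualNumber k, (∀ x, (φ x).fst = s x) ∧ ∀ l, φ (b l) = if l = i then DualNumber.eps else 0 := by
  have hsm : (MvPolynomial.eval₂Hom κ b).FormallySmooth := by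
    let := (MvPolynomial.eval₂Hom κ b).toAlgebra
    have : Algebra.Etale (MvPolynomial ι k) A := hb
    exact (inferInstance : Algebra.FormallySmooth (MvPolynomial ι k) A)
  let g : DualNumber k →+* k := (TrivSqZeroExt.fstHom k k k).toRingHom
  have hg : Function.Surjective g := fun x => ⟨TrivSqZeroExt.inl x, TrivSqZeroExt.fst_inl k x⟩
  have hk : IsNilpotent (RingHom.ker g) := by
    refine ⟨2, ?_⟩
    rw [Ideal.zero_eq_bot, eq_bot_iff]
    refine (le_of_eq (pow_two (RingHom.ker g))).trans (Ideal.mul_le.mpr ?_)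
    intro x hx y hy
    have hx' : x.fst = 0 := hx
    have hy' : y.fst = 0 := hy
    rw [Ideal.mem_bot]
    ext
    · simp [hx']
    · simp [hx', hy']
  obtain ⟨φ, h1, h2⟩ := exists_lift_ringHom (MvPolynomial.eval₂Hom κ b) hsm g hg hk
    (MvPolynomial.eval₂Hom (TrivSqZeroExt.inlHom k k)
      (fun l => if l = i then (DualNumber.eps : DualNumber k) else 0)) s (by
      apply MvPolynomial.ringHom_ext
      · intro r
        have h3 := RingHom.congr_fun hs r
        simp only [RingHom.comp_apply, MvPolynomial.coe_eval₂Hom, MvPolynomial.eval₂_C] at h3 ⊢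
        rw [h3]
        exact (TrivSqZeroExt.fst_inl k r).symm
      · intro l
        simp only [RingHom.comp_apply, MvPolynomial.coe_eval₂Hom, MvPolynomial.eval₂_X, hb0]
        split_ifs
        · exact (TrivSqZeroExt.fst_inr k 1).symm
        · exact (map_zero g).symm)
  refine ⟨φ, fun x => RingHom.congr_fun h1 x, fun l => ?_⟩
  have := RingHom.congr_fun h2 (MvPolynomial.X l)
  simpa using this

/-- **Change of coordinates.** -/
theorem exists_matrix (hs : s.comp κ = RingHom.id k) (ha : (MvPolynomial.eval₂Hom κ a).Etale)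
    (hb : (MvPolynomial.eval₂Hom κ b).Etale) (ha0 : ∀ i, s (a i) = 0) (hb0 : ∀ i, s (b i) = 0)
    (hu : ∀ P : Ideal A, P.IsPrime → (∀ i, a i ∈ P) → P = RingHom.ker s) :
    ∃ N : Matrix ι ι A, (∀ l, b l = ∑ m, N l m * a m) ∧ (N.map s).det ≠ 0 := by
  have h1 : ∀ l, ∃ c : ι → A, ∑ m, c m * a m = b l := fun l => by
    rw [← Ideal.mem_span_range_iff_exists_fun, span_eq_ker κ ha ha0 hu]
    exact hb0 l
  choose N hN using h1
  choose φ hφ hφb using exists_tangent κ hb hs hb0
  refine ⟨Matrix.of N, fun l => (hN l).symm, ?_⟩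
  have h2 : (Matrix.of N).map s * (Matrix.of fun m i => (φ i (a m)).snd) = 1 := by
    ext l i
    have h3 := congrArg (fun x => (φ i x).snd) (hN l)
    simp only [map_sum, map_mul, hφb] at h3
    rw [Matrix.mul_apply, Matrix.one_apply]
    have h4 : (∑ m, φ i (N l m) * φ i (a m)).snd = ∑ m, s (N l m) * (φ i (a m)).snd := by
      have h5 : (∑ m, φ i (N l m) * φ i (a m)).snd = ∑ m, (φ i (N l m) * φ i (a m)).snd :=
        map_sum (TrivSqZeroExt.sndHom k k) _ _
      rw [h5]
      refine Finset.sum_congr rfl fun m _ => ?_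
      rw [TrivSqZeroExt.snd_mul, hφ, hφ, ha0]
      simp
    rw [h4] at h3
    simp only [Matrix.map_apply, Matrix.of_apply]
    rw [h3]
    split_ifs
    · simp
    · simp
  intro h0
  have h3 := congrArg Matrix.det h2
  rw [Matrix.det_mul, h0, zero_mul, Matrix.det_one] at h3
  exact zero_ne_one h3

end

end Groth.Agent.Etdl.H521.RcHAlg
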