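import Mathlib.AlgebraicGeometry.Morphisms.FiniteType
import Mathlib.AlgebraicGeometry.AffineSpace
import Mathlib.AlgebraicGeometry.Morphisms.Etale
import Mathlib.LinearAlgebra.Matrix.Determinant.Basic
import Mathlib.RingTheory.Localization.Away.Basic

/-!
# The open part of the affine line where `(1 - t) + t N` is invertible
-/

set_option autoImplicit false

universe u

open CategoryTheory CategoryTheory.Limits AlgebraicGeometry

namespace Groth.Agent.Etdl.H521.RcHLine

noncomputable section

/-- The structure map `k → Γ(V)`. -/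
def kΓ {k : Type u} [Field k] {V : Scheme.{u}} (v : V ⟶ Spec (CommRingCat.of k)) : k →+* Γ(V, ⊤) :=
  ((Scheme.ΓSpecIso (CommRingCat.of k)).inv ≫ v.appTop).hom

theorem appTop_kΓ {k : Type u} [Field k] {V W : Scheme.{u}} (v : V ⟶ Spec (CommRingCat.of k))
    (f : W ⟶ V) (x : k) : f.appTop (kΓ v x) = kΓ (f ≫ v) x := by
  simp only [kΓ, Scheme.Hom.comp_appTop]
  rfl

theorem appTop_inv {R S : CommRingCat.{u}} (φ : R ⟶ S) (x : R) :
    (Spec.map φ).appTop ((Scheme.ΓSpecIso R).inv x) = (Scheme.ΓSpecIso S).inv (φ x) := by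
  have h := Scheme.ΓSpecIso_inv_naturality φ
  exact congr($(h.symm) x)

theorem kΓ_specMap {k : Type u} [Field k] {R : CommRingCat.{u}} (φ : CommRingCat.of k ⟶ R) (x : k) :
    kΓ (Spec.map φ) x = (Scheme.ΓSpecIso R).inv (φ x) := appTop_inv φ x

section

variable {k : Type u} [Field k] {ι : Type*} [Fintype ι] [DecidableEq ι]

/-- `(1 - t) + t N`. -/
def hom {R : Type*} [CommRing R] (t : R) (N : Matrix ι ι R) : Matrix ι ι R :=
  (1 - t) • (1 : Matrix ι ι R) + t • N

omit [Fintype ι] in
theorem hom_zero {R : Type*} [CommRing R] (N : Matrix ι ι R) : hom 0 N = 1 := by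
  simp [hom]

omit [Fintype ι] in
theorem hom_one {R : Type*} [CommRing R] (N : Matrix ι ι R) : hom 1 N = N := by
  simp [hom]

omit [Fintype ι] in
theorem hom_map {R R' : Type*} [CommRing R] [CommRing R'] (f : R →+* R') (t : R) (N : Matrix ι ι R) :
    (hom t N).map f = hom (f t) (N.map f) := by
  ext i j
  simp only [hom, Matrix.map_apply, Matrix.add_apply, Matrix.smul_apply, smul_eq_mul, map_add, map_mul,
    map_sub, map_one]
  congr 2
  rw [Matrix.one_apply, Matrix.one_apply]
  split_ifs
  · exact map_one f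
  · exact map_zero f

theorem map_det_hom {R R' : Type*} [CommRing R] [CommRing R'] (f : R →+* R') (t : R) (N : Matrix ι ι R) :
    f (hom t N).det = (hom (f t) (N.map f)).det := by
  rw [RingHom.map_det, ← hom_map]
  rfl

/-- The open part of the affine line where `(1 - t) + t N` is invertible. -/
theorem exists_line (N : Matrix ι ι k) (hN : N.det ≠ 0) :
    ∃ (T : Scheme.{u}) (τ : T ⟶ Spec (CommRingCat.of k)) (_ : LocallyOfFiniteType τ)
      (_ : IrreducibleSpace T) (t : Γ(T, ⊤)) (t₁ t₂ : Spec (CommRingCat.of k) ⟶ T)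
      (_ : t₁ ≫ τ = 𝟙 _) (_ : t₂ ≫ τ = 𝟙 _), t₁.appTop t = 0 ∧ t₂.appTop t = 1 ∧
        IsUnit (hom t (N.map (kΓ τ))).det := by
  let δ : Polynomial k := (hom Polynomial.X (N.map Polynomial.C)).det
  have hev : ∀ c : k, Polynomial.evalRingHom c δ = (hom c N).det := by
    intro c
    rw [map_det_hom]
    congr 2
    · exact Polynomial.eval_X
    · ext i j
      exact Polynomial.eval_C
  have h0 : IsUnit (Polynomial.evalRingHom (0 : k) δ) := by
    rw [hev, hom_zero, Matrix.det_one]
    exact isUnit_one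
  have h1 : IsUnit (Polynomial.evalRingHom (1 : k) δ) := by
    rw [hev, hom_one]
    exact hN.isUnit
  have hδ : δ ≠ 0 := by
    rintro h
    rw [h, map_zero] at h0
    exact not_isUnit_zero h0
  let R := Localization.Away δ
  have hR : IsDomain R := IsLocalization.isDomain_localization (powers_le_nonZeroDivisors_of_noZeroDivisors hδ)
  let α : Polynomial k →+* R := algebraMap (Polynomial k) R
  let c : CommRingCat.of k ⟶ CommRingCat.of R := CommRingCat.ofHom (α.comp Polynomial.C)
  let e₀ : R →+* k := IsLocalization.Away.lift δ h0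
  let e₁ : R →+* k := IsLocalization.Away.lift δ h1
  have he₀ : e₀.comp α = Polynomial.evalRingHom 0 := IsLocalization.Away.lift_comp δ h0
  have he₁ : e₁.comp α = Polynomial.evalRingHom 1 := IsLocalization.Away.lift_comp δ h1
  refine ⟨Spec (CommRingCat.of R), Spec.map c, ?_, ?_, (Scheme.ΓSpecIso (CommRingCat.of R)).inv (α Polynomial.X),
    Spec.map (CommRingCat.ofHom e₀), Spec.map (CommRingCat.ofHom e₁), ?_, ?_, ?_, ?_, ?_⟩
  · rw [HasRingHomProperty.Spec_iff (P := @LocallyOfFiniteType)]
    have h2 : α.FiniteType := by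
      have : Algebra.FinitePresentation (Polynomial k) R := IsLocalization.Away.finitePresentation δ
      exact RingHom.finiteType_algebraMap.mpr inferInstance
    have h3 : (Polynomial.C : k →+* Polynomial k).FiniteType :=
      RingHom.finiteType_algebraMap.mpr (inferInstanceAs (Algebra.FiniteType k (Polynomial k)))
    exact h2.comp h3
  · exact (inferInstance : IrreducibleSpace (PrimeSpectrum R))
  · rw [← Spec.map_comp, ← Spec.map_id]
    congr 1
    ext x
    have := RingHom.congr_fun he₀ (Polynomial.C x)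
    change e₀ (α (Polynomial.C x)) = x
    rw [← RingHom.comp_apply, he₀]
    exact Polynomial.eval_C
  · rw [← Spec.map_comp, ← Spec.map_id]
    congr 1
    ext x
    change e₁ (α (Polynomial.C x)) = x
    rw [← RingHom.comp_apply, he₁]
    exact Polynomial.eval_C
  · rw [appTop_inv]
    have h4 : e₀ (α Polynomial.X) = 0 := by
      have h5 := RingHom.congr_fun he₀ Polynomial.X
      rwa [RingHom.comp_apply, Polynomial.coe_evalRingHom, Polynomial.eval_X] at h5
    change (Scheme.ΓSpecIso (CommRingCat.of k)).inv (e₀ (α Polynomial.X)) = 0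
    rw [h4, map_zero]
  · rw [appTop_inv]
    have h4 : e₁ (α Polynomial.X) = 1 := by
      have h5 := RingHom.congr_fun he₁ Polynomial.X
      rwa [RingHom.comp_apply, Polynomial.coe_evalRingHom, Polynomial.eval_X] at h5
    change (Scheme.ΓSpecIso (CommRingCat.of k)).inv (e₁ (α Polynomial.X)) = 1
    rw [h4, map_one]
  · have h2 : N.map (kΓ (Spec.map c)) =
        (N.map Polynomial.C).map ((Scheme.ΓSpecIso (CommRingCat.of R)).inv.hom.comp α) := by
      ext i j
      exact kΓ_specMap c (N i j)
    rw [h2]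
    have h3 := map_det_hom ((Scheme.ΓSpecIso (CommRingCat.of R)).inv.hom.comp α) Polynomial.X (N.map Polynomial.C)
    refine (congrArg IsUnit h3).mp ?_
    exact (IsLocalization.Away.algebraMap_isUnit (S := R) δ).map (Scheme.ΓSpecIso (CommRingCat.of R)).inv.hom

end

/-! ### Étale coordinates on an affine scheme -/

section

variable {k : Type u} [Field k] {n : Type u} {W : Scheme.{u}} (v : W ⟶ Spec (CommRingCat.of k))
  (a : n → Γ(W, ⊤))

theorem homOfVector_eq : AffineSpace.homOfVector v a = W.toSpecΓ ≫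
    Spec.map (CommRingCat.ofHom (MvPolynomial.eval₂Hom (kΓ v) a)) ≫
      (AffineSpace.SpecIso n (CommRingCat.of k)).inv := by
  apply AffineSpace.hom_ext
  · rw [AffineSpace.homOfVector_over, Category.assoc, Category.assoc, AffineSpace.SpecIso_inv_over,
      ← Spec.map_comp]
    have h1 : CommRingCat.ofHom (MvPolynomial.C : k →+* MvPolynomial n k) ≫
        CommRingCat.ofHom (MvPolynomial.eval₂Hom (kΓ v) a) =
        (Scheme.ΓSpecIso (CommRingCat.of k)).inv ≫ v.appTop := by
      ext x
      exact MvPolynomial.eval₂_C _ _ _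
    rw [h1, Spec.map_comp, ← Scheme.toSpecΓ_naturality_assoc]
    simp
  · intro i
    rw [AffineSpace.homOfVector_appTop_coord]
    simp only [Scheme.Hom.comp_appTop, CommRingCat.comp_apply, Scheme.toSpecΓ_appTop]
    have h1 := AffineSpace.SpecIso_inv_appTop_coord (n := n) (CommRingCat.of k) i
    have h2 := appTop_inv (CommRingCat.ofHom (MvPolynomial.eval₂Hom (kΓ v) a)) (MvPolynomial.X i)
    refine Eq.trans ?_ (congrArg (Scheme.ΓSpecIso Γ(W, ⊤)).hom ((congrArg (Spec.map
      (CommRingCat.ofHom (MvPolynomial.eval₂Hom (kΓ v) a))).appTop h1).trans h2)).symm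
    have h3 : ∀ x : Γ(W, ⊤), (Scheme.ΓSpecIso Γ(W, ⊤)).hom ((Scheme.ΓSpecIso Γ(W, ⊤)).inv x) = x :=
      fun x => congr($((Scheme.ΓSpecIso Γ(W, ⊤)).inv_hom_id) x)
    exact (MvPolynomial.eval₂_X (kΓ v) a i).symm.trans (h3 _).symm

theorem etale_eval [IsAffine W] [h : Etale (AffineSpace.homOfVector v a)] :
    (MvPolynomial.eval₂Hom (kΓ v) a).Etale := by
  rw [homOfVector_eq] at h
  have h1 : Etale (Spec.map (CommRingCat.ofHom (MvPolynomial.eval₂Hom (kΓ v) a))) := by
    rwa [MorphismProperty.cancel_left_of_respectsIso @Etale,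
      MorphismProperty.cancel_right_of_respectsIso @Etale] at h
  exact (HasRingHomProperty.Spec_iff (P := @Etale)).1 h1

/-- On an affine scheme, a prime ideal of global functions comes from a point. -/
theorem exists_point [IsAffine W] (P : Ideal Γ(W, ⊤)) [P.IsPrime] :
    ∃ z : W, ∀ f : Γ(W, ⊤), z ∈ W.basicOpen f ↔ f ∉ P := by
  refine ⟨W.isoSpec.inv ⟨P, inferInstance⟩, fun f => ?_⟩
  rw [← Scheme.toSpecΓ_preimage_basicOpen]
  change W.toSpecΓ (W.isoSpec.inv ⟨P, inferInstance⟩) ∈ PrimeSpectrum.basicOpen f ↔ _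
  rw [← Scheme.Hom.comp_apply, Scheme.isoSpec_inv_toSpecΓ]
  rfl

end

end

end Groth.Agent.Etdl.H521.RcHLine
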