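import Groth.Agent.Etdl.H440.Geo
import Groth.Agent.Etdl.H521.RcHAlg
import Groth.Agent.Etdl.H521.RcHLine
import Mathlib.AlgebraicGeometry.PullbackCarrier

/-!
# Changing the coordinates at a fixed point (route C geometry, statement (H))
-/

set_option autoImplicit false
universe u
open CategoryTheory CategoryTheory.Limits AlgebraicGeometry Opposite

namespace Groth.Agent.Etdl.H521.RcH

open Groth.Agent.Etdl.H440.Geo Groth.Agent.Etdl.H521.RcHLine Groth.Agent.Etdl.H521.RcHAlg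

noncomputable section

/-! ### Open immersions and basic opens -/

theorem exists_liftD {V W : Scheme.{u}} (D : Γ(W, ⊤)) (g : V ⟶ W) (hg : IsUnit (g.appTop D)) :
    ∃ g' : V ⟶ (W.basicOpen D).toScheme, g' ≫ (W.basicOpen D).ι = g := by
  refine ⟨IsOpenImmersion.lift (W.basicOpen D).ι g ?_, IsOpenImmersion.lift_fac _ _ _⟩
  rw [Scheme.Opens.range_ι]
  rintro _ ⟨y, rfl⟩
  change y ∈ g ⁻¹ᵁ W.basicOpen D
  rw [Scheme.preimage_basicOpen_top, Scheme.basicOpen_of_isUnit _ hg]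
  trivial

theorem isUnit_ι_appTop {W : Scheme.{u}} (D : Γ(W, ⊤)) : IsUnit ((W.basicOpen D).ι.appTop D) := by
  have h : (W.basicOpen D).toScheme.basicOpen ((W.basicOpen D).ι.appTop D) = ⊤ := by
    rw [← Scheme.preimage_basicOpen_top]
    exact Scheme.Opens.ι_preimage_self _
  refine RingedSpace.isUnit_of_isUnit_germ _ _ _ fun x hx => ?_
  have h1 : x ∈ (W.basicOpen D).toScheme.basicOpen ((W.basicOpen D).ι.appTop D) := by
    rw [h]
    trivial
  exact ((W.basicOpen D).toScheme.mem_basicOpen_top _ x).mp h1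

/-- The functions vanishing at a point. -/
def van {Z : Scheme.{u}} (z : Z) : Ideal Γ(Z, ⊤) :=
  (IsLocalRing.maximalIdeal (Z.presheaf.stalk z)).comap (Z.presheaf.germ ⊤ z trivial).hom

instance {Z : Scheme.{u}} (z : Z) : (van z).IsPrime := by
  unfold van
  infer_instance

theorem mem_van {Z : Scheme.{u}} (z : Z) (f : Γ(Z, ⊤)) : f ∈ van z ↔ z ∉ Z.basicOpen f := by
  rw [Scheme.mem_basicOpen_top, van, Ideal.mem_comap, IsLocalRing.mem_maximalIdeal, mem_nonunits_iff]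

/-- If `P w` vanishes at `z` and `det P` does not, then `w` vanishes at `z`. -/
theorem mem_van_of_mulVec {ι : Type*} [Fintype ι] [DecidableEq ι] {R : Type*} [CommRing R] {𝔭 : Ideal R}
    [𝔭.IsPrime] (P : Matrix ι ι R) (w : ι → R) (hD : P.det ∉ 𝔭) (h : ∀ l, P.mulVec w l ∈ 𝔭) (m : ι) :
    w m ∈ 𝔭 := by
  have h1 : P.adjugate.mulVec (P.mulVec w) = P.det • w := by
    rw [Matrix.mulVec_mulVec, Matrix.adjugate_mul, Matrix.smul_mulVec, Matrix.one_mulVec]
  have h2 : P.adjugate.mulVec (P.mulVec w) m ∈ 𝔭 := by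
    rw [Matrix.mulVec, dotProduct]
    exact Ideal.sum_mem _ fun l _ => 𝔭.mul_mem_left _ (h l)
  rw [h1] at h2
  exact ((‹𝔭.IsPrime›.mem_or_mem h2).resolve_left hD)

/-! ### Constructing charts -/

variable {S X Y T : Scheme.{u}} {p : Y ⟶ S} {j : X ⟶ Y} {d : ℕ} {τ : T ⟶ S}

/-- A chart from an open subset of a scheme. -/
theorem exists_chart (W₀ : Scheme.{u}) (i₀ : W₀ ⟶ X) (v₀ : W₀ ⟶ T) (hv₀ : v₀ ≫ τ = i₀ ≫ j ≫ p)
    (io₀ : IsOpenImmersion (pullback.lift (f := j ≫ p) (g := τ) i₀ v₀ hv₀.symm)) (D : Γ(W₀, ⊤))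
    (c : Ix.{u} d → Γ(W₀, ⊤)) (σ₀ : T ⟶ W₀) (hσD : IsUnit (σ₀.appTop D)) (hσv : σ₀ ≫ v₀ = 𝟙 T)
    (hσc : ∀ l, σ₀.appTop (c l) = 0)
    (huniq : ∀ z ∈ W₀.basicOpen D, (∀ l, z ∉ W₀.basicOpen (c l)) → z ∈ Set.range σ₀)
    (hY : ∀ z z' : W₀, z' ∈ Set.range σ₀ → (i₀ ≫ j) z = (i₀ ≫ j) z' → v₀ z = v₀ z' → z = z') :
    ∃ (C : SChart p j d τ) (g : C.W ⟶ W₀), C.i = g ≫ i₀ ∧ C.v = g ≫ v₀ ∧
      (∀ l, C.c l = g.appTop (c l)) ∧ C.σ ≫ g = σ₀ ∧ Mono g ∧ IsUnit (g.appTop D) ∧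
      ∀ {V : Scheme.{u}} (f : V ⟶ W₀), IsUnit (f.appTop D) → ∃ f' : V ⟶ C.W, f' ≫ g = f := by
  obtain ⟨σ, hσ⟩ := exists_liftD D σ₀ hσD
  let g : (W₀.basicOpen D).toScheme ⟶ W₀ := (W₀.basicOpen D).ι
  have hg : Function.Injective g := (W₀.basicOpen D).ι.isOpenEmbedding.injective
  let C : SChart p j d τ :=
    { W := (W₀.basicOpen D).toScheme
      i := g ≫ i₀
      v := g ≫ v₀
      hv := by rw [Category.assoc, Category.assoc, hv₀]
      io := by
        have h1 : pullback.lift (f := j ≫ p) (g := τ) (g ≫ i₀) (g ≫ v₀)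
            (by rw [Category.assoc, Category.assoc, hv₀]) =
            g ≫ pullback.lift (f := j ≫ p) (g := τ) i₀ v₀ hv₀.symm := by
          apply pullback.hom_ext
          · rw [pullback.lift_fst, Category.assoc, pullback.lift_fst]
          · rw [pullback.lift_snd, Category.assoc, pullback.lift_snd]
        rw [h1]
        infer_instance
      c := fun l => g.appTop (c l)
      σ := σ
      σv := by rw [← Category.assoc, hσ, hσv]
      σc := fun l => by
        rw [← CommRingCat.comp_apply, ← Scheme.Hom.comp_appTop, hσ, hσc]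
      uniq := fun z hz => by
        obtain ⟨t, ht⟩ := huniq (g z) z.2 (fun l hl => hz l (by
          rw [← Scheme.preimage_basicOpen_top]
          exact hl))
        refine ⟨t, hg ?_⟩
        rw [← ht, ← hσ]
        rfl
      uniqY := fun z z' hz' h => by
        obtain ⟨t, rfl⟩ := hz'
        apply hg
        refine hY _ _ ⟨t, ?_⟩ ?_ ?_
        · rw [← hσ]
          rfl
        · have := congrArg (pullback.fst p τ) h
          rw [← Scheme.Hom.comp_apply, ← Scheme.Hom.comp_apply, pullback.lift_fst, Category.assoc] at this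
          exact this
        · have := congrArg (pullback.snd p τ) h
          rw [← Scheme.Hom.comp_apply, ← Scheme.Hom.comp_apply, pullback.lift_snd] at this
          exact this }
  refine ⟨C, g, rfl, rfl, fun l => rfl, hσ, inferInstance, isUnit_ι_appTop D, fun f hf => exists_liftD D f hf⟩

/-- Morphisms to such a chart. -/
theorem exists_hom {S' X' Y' T' : Scheme.{u}} {p' : Y' ⟶ S'} {j' : X' ⟶ Y'} {τ' : T' ⟶ S'}
    (C : SChart p j d τ) (C' : SChart p' j' d τ') {W₀ : Scheme.{u}} {i₀ : W₀ ⟶ X} {v₀ : W₀ ⟶ T}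
    {c : Ix.{u} d → Γ(W₀, ⊤)} {σ₀ : T ⟶ W₀} (g : C.W ⟶ W₀) (hi : C.i = g ≫ i₀) (hv : C.v = g ≫ v₀)
    (hc : ∀ l, C.c l = g.appTop (c l)) (hσ : C.σ ≫ g = σ₀) [Mono g] (f' : C'.W ⟶ C.W) (f : C'.W ⟶ W₀)
    (hf : f' ≫ g = f) (x : X' ⟶ X) (ν : T' ⟶ T) (h1 : f ≫ i₀ = C'.i ≫ x) (h2 : f ≫ v₀ = C'.v ≫ ν)
    (h3 : ∀ l, f.appTop (c l) = C'.c l) (h4 : C'.σ ≫ f = ν ≫ σ₀) : Nonempty (C'.Hom C x ν) := by
  subst hf
  refine ⟨{ g := f', gi := ?_, gv := ?_, gc := fun l => ?_, gσ := ?_ }⟩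
  · rw [hi, ← Category.assoc, h1]
  · rw [hv, ← Category.assoc, h2]
  · rw [hc, ← h3, Scheme.Hom.comp_appTop]
    rfl
  · rw [← cancel_mono g, Category.assoc, Category.assoc, hσ, h4]

/-! ### Charts at points -/

section Pt

variable {k : Type u} [Field k] {q : Y ⟶ Spec (CommRingCat.of k)}
  (C : SChart q j d (𝟙 (Spec (CommRingCat.of k))))

theorem v_eq : C.v = C.i ≫ j ≫ q := by
  rw [← C.hv, Category.comp_id]

theorem isOpenImmersion_i : IsOpenImmersion C.i := by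
  have h := C.io
  have h1 : C.i = pullback.lift (f := j ≫ q) (g := 𝟙 _) C.i C.v C.hv.symm ≫ pullback.fst _ _ :=
    (pullback.lift_fst _ _ _).symm
  rw [h1]
  infer_instance

theorem uniqY' (w w' : C.W) (hw' : w' ∈ Set.range C.σ) (h : (C.i ≫ j) w = (C.i ≫ j) w') : w = w' := by
  refine C.uniqY w w' hw' ?_
  apply (Scheme.homeoOfIso (asIso (pullback.fst q (𝟙 (Spec (CommRingCat.of k)))))).injective
  change pullback.fst q (𝟙 (Spec (CommRingCat.of k))) _ = pullback.fst q (𝟙 (Spec (CommRingCat.of k))) _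
  rw [← Scheme.Hom.comp_apply, ← Scheme.Hom.comp_apply, pullback.lift_fst]
  exact h

/-- The value of a function at the point of a chart. -/
def ev : Γ(C.W, ⊤) →+* k := (C.σ.appTop ≫ (Scheme.ΓSpecIso (CommRingCat.of k)).hom).hom

theorem ev_comp : (ev C).comp (kΓ C.v) = RingHom.id k := by
  ext x
  have h1 : C.σ.appTop (kΓ C.v x) = (Scheme.ΓSpecIso (CommRingCat.of k)).inv x := by
    rw [appTop_kΓ, C.σv]
    simp [kΓ]
  change (Scheme.ΓSpecIso (CommRingCat.of k)).hom (C.σ.appTop (kΓ C.v x)) = x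
  rw [h1]
  exact congr($((Scheme.ΓSpecIso (CommRingCat.of k)).inv_hom_id) x)

theorem inv_ev (x : Γ(C.W, ⊤)) :
    (Scheme.ΓSpecIso (CommRingCat.of k)).inv (ev C x) = C.σ.appTop x :=
  congr($((Scheme.ΓSpecIso (CommRingCat.of k)).hom_inv_id) (C.σ.appTop x))

theorem kΓ_ev {T' : Scheme.{u}} (τ' : T' ⟶ Spec (CommRingCat.of k)) (x : Γ(C.W, ⊤)) :
    kΓ τ' (ev C x) = (τ' ≫ C.σ).appTop x := by
  rw [Scheme.Hom.comp_appTop, CommRingCat.comp_apply, ← inv_ev]
  rfl

theorem ev_c (l : Ix.{u} d) : ev C (C.c l) = 0 := by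
  change (Scheme.ΓSpecIso (CommRingCat.of k)).hom (C.σ.appTop (C.c l)) = 0
  rw [C.σc, map_zero]

theorem eq_ker [IsAffine C.W] (P : Ideal Γ(C.W, ⊤)) (hP : P.IsPrime) (h : ∀ l, C.c l ∈ P) :
    P = RingHom.ker (ev C) := by
  obtain ⟨z, hz⟩ := exists_point P
  obtain ⟨y, rfl⟩ := C.uniq z (fun l hl => (hz _).mp hl (h l))
  ext f
  rw [RingHom.mem_ker, ← not_iff_not, ← hz]
  change y ∈ C.σ ⁻¹ᵁ C.W.basicOpen f ↔ _
  rw [Scheme.preimage_basicOpen_top, basicOpen_eq_of_affine']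
  change ev C f ∉ y.asIdeal ↔ ¬ ev C f = 0
  rw [not_iff_not]
  constructor
  · intro h1
    by_contra h2
    exact y.isPrime.ne_top (Ideal.eq_top_of_isUnit_mem _ h1 (IsUnit.mk0 _ h2))
  · intro h1
    rw [h1]
    exact zero_mem _

end Pt

/-- The value of `P w` after pullback. -/
theorem appTop_mulVec {ι : Type*} [Fintype ι] [DecidableEq ι] {V W : Scheme.{u}} (f : V ⟶ W)
    (P : Matrix ι ι Γ(W, ⊤)) (w : ι → Γ(W, ⊤)) (l : ι) :
    f.appTop (P.mulVec w l) = (P.map f.appTop).mulVec (fun m => f.appTop (w m)) l :=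
  RingHom.map_mulVec f.appTop.hom P w l

/-- **(H)** -/
theorem stmtH : StmtH.{u} := by
  intro k _ _ X Y p _ _ j _ d C₁ C₂ hE₁ hE₂ hW e hei heσ
  classical
  have hev : e.hom ≫ C₂.v = C₁.v := by
    rw [v_eq C₂, v_eq C₁, ← Category.assoc, hei]
  let b : Ix.{u} d → Γ(C₁.W, ⊤) := fun l => e.hom.appTop (C₂.c l)
  have hEa : (MvPolynomial.eval₂Hom (kΓ C₁.v) C₁.c).Etale := etale_eval (h := hE₁) _ _
  have hEb : (MvPolynomial.eval₂Hom (kΓ C₁.v) b).Etale := by
    have h1 : Etale (AffineSpace.homOfVector C₁.v b) := by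
      have h2 : AffineSpace.homOfVector C₁.v b = e.hom ≫ AffineSpace.homOfVector C₂.v C₂.c := by
        rw [AffineSpace.comp_homOfVector, hev]
        rfl
      rw [h2]
      have : Etale (AffineSpace.homOfVector C₂.v C₂.c) := hE₂
      infer_instance
    exact etale_eval (h := h1) _ _
  have hσb : ∀ l, C₁.σ.appTop (b l) = 0 := by
    intro l
    change C₁.σ.appTop (e.hom.appTop (C₂.c l)) = 0
    rw [← CommRingCat.comp_apply, ← Scheme.Hom.comp_appTop, heσ, C₂.σc]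
  have hb0 : ∀ l, ev C₁ (b l) = 0 := by
    intro l
    change (Scheme.ΓSpecIso (CommRingCat.of k)).hom (C₁.σ.appTop (b l)) = 0
    rw [hσb, map_zero]
  obtain ⟨N, hN, hNdet⟩ := exists_matrix (kΓ C₁.v) (ev_comp C₁) hEa hEb (ev_c C₁) hb0 (eq_ker C₁)
  obtain ⟨T, τ, hτ, hT, t, t₁, t₂, ht₁, ht₂, ht0, ht1, hu⟩ := exists_line (N.map (ev C₁)) hNdet
  obtain ⟨C₂', g₂, hi₂, hv₂, hc₂, hσ₂, hm₂, hD₂, -⟩ := exists_chart (τ := 𝟙 _) C₁.W C₁.i C₁.v C₁.hv C₁.io
    N.det b C₁.σ (by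
      have h1 : C₁.σ.appTop N.det = (Scheme.ΓSpecIso (CommRingCat.of k)).inv ((N.map (ev C₁)).det) := by
        rw [← inv_ev]
        congr 1
        exact RingHom.map_det (ev C₁) N
      rw [h1]
      exact hNdet.isUnit.map (Scheme.ΓSpecIso (CommRingCat.of k)).inv.hom) C₁.σv hσb (by
      intro z _ hz
      obtain ⟨y, hy⟩ := C₂.uniq (e.hom z) (fun l hl => hz l (by
        change z ∈ C₁.W.basicOpen (e.hom.appTop (C₂.c l))
        rw [← Scheme.preimage_basicOpen_top]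
        exact hl))
      refine ⟨y, (Scheme.homeoOfIso e).injective ?_⟩
      change e.hom (C₁.σ y) = e.hom z
      rw [← hy, ← heσ]
      rfl) (by
      intro z z' hz' h1 _
      exact uniqY' C₁ z z' hz' h1)
  let f₁ : pullback C₁.v τ ⟶ C₁.W := pullback.fst _ _
  let f₂ : pullback C₁.v τ ⟶ T := pullback.snd _ _
  have hcond : f₁ ≫ C₁.v = f₂ ≫ τ := pullback.condition
  let r : Γ(pullback C₁.v τ, ⊤) := f₂.appTop t
  let N' : Matrix (Ix.{u} d) (Ix.{u} d) Γ(pullback C₁.v τ, ⊤) := N.map f₁.appTop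
  let P := hom r N'
  let w : Ix.{u} d → Γ(pullback C₁.v τ, ⊤) := fun m => f₁.appTop (C₁.c m)
  -- the pullback of the data
  have hdet : ∀ {V : Scheme.{u}} (f : V ⟶ pullback C₁.v τ),
      f.appTop P.det = (hom ((f ≫ f₂).appTop t) (N.map (f ≫ f₁).appTop)).det := by
    intro V f
    exact map_det_hom f.appTop.hom r N'
  have hP : ∀ {V : Scheme.{u}} (f : V ⟶ pullback C₁.v τ),
      P.map f.appTop = hom ((f ≫ f₂).appTop t) (N.map (f ≫ f₁).appTop) := by
    intro V f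
    exact hom_map f.appTop.hom r N'
  have hhv : f₂ ≫ τ = (f₁ ≫ C₁.i) ≫ j ≫ p := by
    rw [← hcond, Category.assoc]
    exact congrArg (fun a => f₁ ≫ a) (v_eq C₁)
  have hio : IsOpenImmersion (pullback.lift (f := j ≫ p) (g := τ) (f₁ ≫ C₁.i) f₂ hhv.symm) := by
    have hi := isOpenImmersion_i C₁
    have sq : IsPullback (pullback.lift (f := j ≫ p) (g := τ) (f₁ ≫ C₁.i) f₂ hhv.symm) f₁
        (pullback.fst (j ≫ p) τ) C₁.i := by
      refine IsPullback.of_right (h₁₂ := pullback.snd (j ≫ p) τ) (v₁₃ := τ) (h₂₂ := j ≫ p) ?_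
        (pullback.lift_fst _ _ _) (IsPullback.of_hasPullback (j ≫ p) τ).flip
      rw [pullback.lift_snd, ← v_eq C₁]
      exact (IsPullback.of_hasPullback C₁.v τ).flip
    exact MorphismProperty.of_isPullback sq.flip hi
  let s : T ⟶ pullback C₁.v τ := pullback.lift (τ ≫ C₁.σ) (𝟙 T) (by
    rw [Category.assoc, C₁.σv, Category.comp_id, Category.id_comp])
  have hs₁ : s ≫ f₁ = τ ≫ C₁.σ := pullback.lift_fst _ _ _
  have hs₂ : s ≫ f₂ = 𝟙 T := pullback.lift_snd _ _ _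
  have hsq : IsPullback s τ f₁ C₁.σ := by
    refine IsPullback.of_right (h₁₂ := f₂) (v₁₃ := τ) (h₂₂ := C₁.v) ?_ hs₁
      (IsPullback.of_hasPullback C₁.v τ).flip
    rw [hs₂, C₁.σv]
    exact IsPullback.of_horiz_isIso ⟨by simp⟩
  have hrange : ∀ z : (pullback C₁.v τ : Scheme.{u}), f₁ z ∈ Set.range C₁.σ → z ∈ Set.range s := by
    rintro z ⟨y, hy⟩
    obtain ⟨t', ht', -⟩ := Scheme.exists_preimage_of_isPullback hsq z y hy.symm
    exact ⟨t', ht'⟩
  obtain ⟨C, g, hi, hv, hc, hσ, hm, -, hl⟩ := exists_chart (p := p) (j := j) (d := d) (τ := τ)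
    (pullback C₁.v τ) (f₁ ≫ C₁.i) f₂ hhv hio P.det (P.mulVec w) s (by
      rw [hdet, hs₁, hs₂]
      convert hu using 3
      · simp
      · ext l m
        exact (kΓ_ev C₁ τ (N l m)).symm) hs₂ (by
      intro l
      rw [appTop_mulVec]
      have h1 : (fun m => s.appTop (w m)) = 0 := by
        funext m
        change s.appTop (f₁.appTop (C₁.c m)) = 0
        rw [← CommRingCat.comp_apply, ← Scheme.Hom.comp_appTop, hs₁, Scheme.Hom.comp_appTop,
          CommRingCat.comp_apply, C₁.σc, map_zero]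
      rw [h1, Matrix.mulVec_zero]
      rfl) (by
      intro z hz hzl
      apply hrange
      refine C₁.uniq _ fun m hm' => ?_
      have h1 : w m ∈ van z := mem_van_of_mulVec P w (fun h => (mem_van _ _).mp h hz)
        (fun l => (mem_van _ _).mpr (hzl l)) m
      rw [mem_van] at h1
      apply h1
      change z ∈ (pullback C₁.v τ).basicOpen (f₁.appTop (C₁.c m))
      rw [← Scheme.preimage_basicOpen_top]
      exact hm') (by
      rintro z _ ⟨t', rfl⟩ h1 h2
      have h3 : f₁ (s t') = C₁.σ (τ t') := congr($hs₁ t')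
      have h4 : f₁ z = f₁ (s t') := uniqY' C₁ _ _ ⟨τ t', h3.symm⟩ h1
      obtain ⟨t'', rfl⟩ := hrange z ⟨τ t', by rw [h4, h3]⟩
      have h5 : ∀ x : T, f₂ (s x) = x := fun x => congr($hs₂ x)
      rw [h5, h5] at h2
      rw [h2])
  refine ⟨C₂', g₂ ≫ e.hom, ?_, ?_, ?_, ?_⟩
  · rw [Category.assoc, hei, hi₂]
  · rw [← Category.assoc, hσ₂, heσ]
  · intro l
    rw [hc₂, Scheme.Hom.comp_appTop]
    rfl
  · -- the two fibres
    have key : ∀ (C' : SChart p j d (𝟙 (Spec (CommRingCat.of k)))) (g' : C'.W ⟶ C₁.W)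
        (t' : Spec (CommRingCat.of k) ⟶ T) (ht' : t' ≫ τ = 𝟙 _) (_ : C'.i = g' ≫ C₁.i)
        (_ : C'.v = g' ≫ C₁.v) (_ : C'.σ ≫ g' = C₁.σ)
        (_ : IsUnit (hom (C'.v.appTop (t'.appTop t)) (N.map g'.appTop)).det)
        (_ : ∀ l, (hom (C'.v.appTop (t'.appTop t)) (N.map g'.appTop)).mulVec
          (fun m => g'.appTop (C₁.c m)) l = C'.c l), Nonempty (C'.Hom C (𝟙 X) t') := by
      intro C' g' t' ht' hi' hv' hσ' hu' hc'
      let f : C'.W ⟶ pullback C₁.v τ := pullback.lift g' (C'.v ≫ t') (by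
        rw [Category.assoc, ht', Category.comp_id, hv'])
      have hf₁ : f ≫ f₁ = g' := pullback.lift_fst _ _ _
      have hf₂ : f ≫ f₂ = C'.v ≫ t' := pullback.lift_snd _ _ _
      have hft : (f ≫ f₂).appTop t = C'.v.appTop (t'.appTop t) := by
        rw [hf₂, Scheme.Hom.comp_appTop]
        rfl
      obtain ⟨f', hf'⟩ := hl f (by
        rw [hdet, hft, hf₁]
        exact hu')
      refine exists_hom C C' g hi hv hc hσ f' f hf' (𝟙 X) t' ?_ ?_ ?_ ?_
      · rw [← Category.assoc, hf₁, hi', Category.comp_id]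
      · exact hf₂
      · intro l
        rw [appTop_mulVec, hP, hft, hf₁, ← hc']
        congr 1
        funext m
        change f.appTop (f₁.appTop (C₁.c m)) = g'.appTop (C₁.c m)
        rw [← CommRingCat.comp_apply, ← Scheme.Hom.comp_appTop, hf₁]
      · apply pullback.hom_ext
        · change (C'.σ ≫ f) ≫ f₁ = (t' ≫ s) ≫ f₁
          rw [Category.assoc, hf₁, Category.assoc, hs₁, ← Category.assoc, ht', Category.id_comp, hσ']
        · change (C'.σ ≫ f) ≫ f₂ = (t' ≫ s) ≫ f₂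
          rw [Category.assoc, hf₂, Category.assoc, hs₂, ← Category.assoc, C'.σv, Category.id_comp,
            Category.comp_id]
    refine ⟨T, τ, hτ, hT, C, t₁, t₂, ht₁, ht₂, ?_, ?_⟩
    · refine key C₁ (𝟙 _) t₁ ht₁ (Category.id_comp _).symm (Category.id_comp _).symm (Category.comp_id _) ?_ ?_
      · rw [ht0, map_zero, hom_zero, Matrix.det_one]
        exact isUnit_one
      · intro l
        rw [ht0, map_zero, hom_zero, Matrix.one_mulVec]
        simp
    · refine key C₂' g₂ t₂ ht₂ hi₂ hv₂ hσ₂ ?_ ?_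
      · rw [ht1, map_one, hom_one]
        have := RingHom.map_det g₂.appTop.hom N
        refine (congrArg IsUnit this).mp hD₂
      · intro l
        rw [ht1, map_one, hom_one, ← appTop_mulVec, hc₂]
        congr 1
        rw [hN]
        rfl

end

end Groth.Agent.Etdl.H521.RcH
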